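import Cfsg.Agent.Lib.H17.M22M.MonoTw

set_option autoImplicit false
set_option maxRecDepth 100000

/-! # The relations among the twist symbols (generated) -/

namespace Cfsg.Agent.Lib.H17.L34M.Cert

open Cfsg.Agent.Lib.H17.MonoCert

/-- the relation vectors -/
def relV : List (List ℤ) := [[0, 0, 0, 2, 0], [1, -2, 0, 2, 0], [2, 2, 0, -1, 0], [2, -1, -1, 2, 0], [-1, -2, 0, 2, -4]]

theorem rel_alg_add {M : Type*} [AddCommGroup M] (a0 a1 a2 a3 a4 : M)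
    (h0 : (0 : ℤ) • a0 + ((0 : ℤ) • a1 + ((0 : ℤ) • a2 + ((2 : ℤ) • a3 + ((0 : ℤ) • a4 + 0)))) = 0)
    (h1 : (1 : ℤ) • a0 + ((-2 : ℤ) • a1 + ((0 : ℤ) • a2 + ((2 : ℤ) • a3 + ((0 : ℤ) • a4 + 0)))) = 0)
    (h2 : (2 : ℤ) • a0 + ((2 : ℤ) • a1 + ((0 : ℤ) • a2 + ((-1 : ℤ) • a3 + ((0 : ℤ) • a4 + 0)))) = 0)
    (h3 : (2 : ℤ) • a0 + ((-1 : ℤ) • a1 + ((-1 : ℤ) • a2 + ((2 : ℤ) • a3 + ((0 : ℤ) • a4 + 0)))) = 0)
    (h4 : (-1 : ℤ) • a0 + ((-2 : ℤ) • a1 + ((0 : ℤ) • a2 + ((2 : ℤ) • a3 + ((-4 : ℤ) • a4 + 0)))) = 0)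
    : (12 : ℤ) • a1 = 0 ∧ (4 : ℤ) • (a4 + (-5 : ℤ) • a1) = 0 ∧ a0 = (2 : ℤ) • a1 ∧ a2 = (3 : ℤ) • a1 ∧ a3 = (6 : ℤ) • a1 := by
  refine ⟨?_, ?_, ?_, ?_, ?_⟩
  · linear_combination (norm := module) (5 : ℤ) • h0 + (-4 : ℤ) • h1 + (2 : ℤ) • h2
  · linear_combination (norm := module) (-8 : ℤ) • h0 + (7 : ℤ) • h1 + (-4 : ℤ) • h2 + (-1 : ℤ) • h4
  · linear_combination (norm := module) (-1 : ℤ) • h0 + (1 : ℤ) • h1
  · linear_combination (norm := module) (-1 : ℤ) • h0 + (2 : ℤ) • h1 + (-1 : ℤ) • h3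
  · linear_combination (norm := module) (-2 : ℤ) • h0 + (2 : ℤ) • h1 + (-1 : ℤ) • h2

theorem rel_alg {A : Type*} [CommGroup A] (z0 z1 z2 z3 z4 : A)
    (h0 : ltw [z0, z1, z2, z3, z4] [0, 0, 0, 2, 0] = 1)
    (h1 : ltw [z0, z1, z2, z3, z4] [1, -2, 0, 2, 0] = 1)
    (h2 : ltw [z0, z1, z2, z3, z4] [2, 2, 0, -1, 0] = 1)
    (h3 : ltw [z0, z1, z2, z3, z4] [2, -1, -1, 2, 0] = 1)
    (h4 : ltw [z0, z1, z2, z3, z4] [-1, -2, 0, 2, -4] = 1)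
    : z1 ^ (12 : ℤ) = 1 ∧ (z4 * z1 ^ (-5 : ℤ)) ^ (4 : ℤ) = 1 ∧ z0 = z1 ^ (2 : ℤ) ∧ z2 = z1 ^ (3 : ℤ) ∧ z3 = z1 ^ (6 : ℤ) := by
  have key := rel_alg_add (M := Additive A) (Additive.ofMul z0) (Additive.ofMul z1) (Additive.ofMul z2) (Additive.ofMul z3) (Additive.ofMul z4)
    (by
      have h : z0 ^ (0 : ℤ) * (z1 ^ (0 : ℤ) * (z2 ^ (0 : ℤ) * (z3 ^ (2 : ℤ) * (z4 ^ (0 : ℤ) * 1)))) = 1 := h0
      have := congrArg Additive.ofMul h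
      simpa only [ofMul_mul, ofMul_zpow, ofMul_one] using this)
    (by
      have h : z0 ^ (1 : ℤ) * (z1 ^ (-2 : ℤ) * (z2 ^ (0 : ℤ) * (z3 ^ (2 : ℤ) * (z4 ^ (0 : ℤ) * 1)))) = 1 := h1
      have := congrArg Additive.ofMul h
      simpa only [ofMul_mul, ofMul_zpow, ofMul_one] using this)
    (by
      have h : z0 ^ (2 : ℤ) * (z1 ^ (2 : ℤ) * (z2 ^ (0 : ℤ) * (z3 ^ (-1 : ℤ) * (z4 ^ (0 : ℤ) * 1)))) = 1 := h2
      have := congrArg Additive.ofMul h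
      simpa only [ofMul_mul, ofMul_zpow, ofMul_one] using this)
    (by
      have h : z0 ^ (2 : ℤ) * (z1 ^ (-1 : ℤ) * (z2 ^ (-1 : ℤ) * (z3 ^ (2 : ℤ) * (z4 ^ (0 : ℤ) * 1)))) = 1 := h3
      have := congrArg Additive.ofMul h
      simpa only [ofMul_mul, ofMul_zpow, ofMul_one] using this)
    (by
      have h : z0 ^ (-1 : ℤ) * (z1 ^ (-2 : ℤ) * (z2 ^ (0 : ℤ) * (z3 ^ (2 : ℤ) * (z4 ^ (-4 : ℤ) * 1)))) = 1 := h4
      have := congrArg Additive.ofMul h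
      simpa only [ofMul_mul, ofMul_zpow, ofMul_one] using this)
  obtain ⟨k0, k1, k2, k3, k4⟩ := key
  refine ⟨?_, ?_, ?_, ?_, ?_⟩
  · apply Additive.ofMul.injective
    rw [ofMul_zpow, ofMul_one]; exact k0
  · apply Additive.ofMul.injective
    rw [ofMul_zpow, ofMul_mul, ofMul_zpow, ofMul_one]; exact k1
  · apply Additive.ofMul.injective
    rw [ofMul_zpow]; exact k2
  · apply Additive.ofMul.injective
    rw [ofMul_zpow]; exact k3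
  · apply Additive.ofMul.injective
    rw [ofMul_zpow]; exact k4

end Cfsg.Agent.Lib.H17.L34M.Cert
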