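import Cfsg.Agent.Lib.H17.L34M.Cert.StepsA
import Cfsg.Agent.Lib.H17.L34M.Cert.StepsB
import Cfsg.Agent.Lib.H17.L34M.Cert.StepsC
import Cfsg.Agent.Lib.H17.L34M.Cert.Rows

set_option autoImplicit false
set_option maxRecDepth 100000

/-! # Running the monomial certificate (generated) -/

namespace Cfsg.Agent.Lib.H17.L34M.Cert

open Cfsg.Agent.Lib.H17.CosetCert (BT WT)
open Cfsg.Agent.Lib.H17.MonoCert

variable {G Q A : Type*} [Group G] [MulAction G Q] [Group A] [MulAction A Q]
  [SMulCommClass G A Q] (tw : List ℤ → A) (γ : ℕ → G)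

theorem run (hfree : ∀ (α β : A) (q : Q), α • q = β • q → α = β)
    (htw : TwOK ladd (List.replicate 5 0) leq tw) (q0 : Q) (hw : WordsOK Ev tw γ q0 words 14) :
    Inv F Ev tw γ q0 words 11520 2880 33 := by
  have h0 := inv_zero F Ev tw γ q0 words 14 hw
  have h1 := checkSteps_sound ladd (List.replicate 5 0) leq F Ev 4 65536 tw γ hfree htw q0 words 14 hw steps0 0 1 14 1000 465 14 h0 chk0
  have h2 := checkSteps_sound ladd (List.replicate 5 0) leq F Ev 4 65536 tw γ hfree htw q0 words 14 hw steps1 1000 465 14 2000 931 14 h1 chk1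
  have h3 := checkSteps_sound ladd (List.replicate 5 0) leq F Ev 4 65536 tw γ hfree htw q0 words 14 hw steps2 2000 931 14 3000 1399 14 h2 chk2
  have h4 := checkSteps_sound ladd (List.replicate 5 0) leq F Ev 4 65536 tw γ hfree htw q0 words 14 hw steps3 3000 1399 14 4000 1869 14 h3 chk3
  have h5 := checkSteps_sound ladd (List.replicate 5 0) leq F Ev 4 65536 tw γ hfree htw q0 words 14 hw steps4 4000 1869 14 5000 2332 14 h4 chk4
  have h6 := checkSteps_sound ladd (List.replicate 5 0) leq F Ev 4 65536 tw γ hfree htw q0 words 14 hw steps5 5000 2332 14 6000 2817 14 h5 chk5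
  have h7 := checkSteps_sound ladd (List.replicate 5 0) leq F Ev 4 65536 tw γ hfree htw q0 words 14 hw steps6 6000 2817 14 7000 2880 14 h6 chk6
  have h8 := checkSteps_sound ladd (List.replicate 5 0) leq F Ev 4 65536 tw γ hfree htw q0 words 14 hw steps7 7000 2880 14 8000 2880 14 h7 chk7
  have h9 := checkSteps_sound ladd (List.replicate 5 0) leq F Ev 4 65536 tw γ hfree htw q0 words 14 hw steps8 8000 2880 14 8996 2880 18 h8 chk8
  have h10 := checkSteps_sound ladd (List.replicate 5 0) leq F Ev 4 65536 tw γ hfree htw q0 words 14 hw steps9 8996 2880 18 9986 2880 28 h9 chk9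
  have h11 := checkSteps_sound ladd (List.replicate 5 0) leq F Ev 4 65536 tw γ hfree htw q0 words 14 hw steps10 9986 2880 28 10986 2880 28 h10 chk10
  have h12 := checkSteps_sound ladd (List.replicate 5 0) leq F Ev 4 65536 tw γ hfree htw q0 words 14 hw steps11 10986 2880 28 11520 2880 33 h11 chk11
  exact h12

end Cfsg.Agent.Lib.H17.L34M.Cert
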